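import Groth.Agent.S5005
import Groth.Agent.SDiv.K474.FittOmega2
import Groth.Agent.SDiv.K474.FittLoc
import Groth.Agent.Dual.H339.OmegaRank
import Groth.Agent.Dual3.K477.GraphSec
import Groth.Agent.Lefpen.H703.ClosedSmooth
import Groth.Agent.VarietyA.SmoothReg
import Groth.Agent.Fga.DimCut
import Groth.Agent.Vancyc.H687.Geo
import Groth.Agent.Divis.SurfConn

/-!
# Differentials and regularity over an algebraically closed (perfect) field
-/

set_option autoImplicit false

universe u

open CategoryTheory CategoryTheory.Limits AlgebraicGeometry Opposite TopologicalSpace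

namespace K284.OmegaReg

/-- Two universal derivations have isomorphic targets, compatibly. -/
theorem exists_iso {X Y : Scheme.{u}} {f : X ⟶ Y} {Ω₁ Ω₂ : X.Modules} {d₁ : OmegaSh.Der f Ω₁}
    {d₂ : OmegaSh.Der f Ω₂} (h₁ : OmegaSh.IsUniversal d₁) (h₂ : OmegaSh.IsUniversal d₂) :
    ∃ e : Ω₁ ≅ Ω₂, d₁.postcomp e.hom.val = d₂ := by
  obtain ⟨a, ha, -⟩ := h₁ Ω₂ d₂
  obtain ⟨b, hb, -⟩ := h₂ Ω₁ d₁
  have e1 : a ≫ b = 𝟙 Ω₁ := by
    obtain ⟨c, -, hc⟩ := h₁ Ω₁ d₁
    have e : d₁.postcomp (a ≫ b).val = (d₁.postcomp a.val).postcomp b.val := rfl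
    rw [ha, hb] at e
    rw [hc (a ≫ b) e]
    exact (hc (𝟙 Ω₁) rfl).symm
  have e2 : b ≫ a = 𝟙 Ω₂ := by
    obtain ⟨c, -, hc⟩ := h₂ Ω₂ d₂
    have e : d₂.postcomp (b ≫ a).val = (d₂.postcomp b.val).postcomp a.val := rfl
    rw [hb, ha] at e
    rw [hc (b ≫ a) e]
    exact (hc (𝟙 Ω₂) rfl).symm
  exact ⟨⟨a, b, e1, e2⟩, ha⟩

/-- The sheaf of differentials against any universal derivation. -/
theorem nonempty_iso {X Y : Scheme.{u}} {f : X ⟶ Y} [QuasiSeparated f] {Ω : X.Modules}
    {d : OmegaSh.Der f Ω} (h : OmegaSh.IsUniversal d) : Nonempty (Ω ≅ Omega.sheaf f) :=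
  ⟨(exists_iso h (Groth.Agent.S5005.result f)).choose⟩

variable {k : Type u} [Field k] [IsAlgClosed k] {X : Scheme.{u}} (f : X ⟶ Spec (CommRingCat.of k))

/-- A regular irreducible scheme of finite type over an algebraically closed field is smooth of relative
dimension its dimension. -/
theorem smoothOfRelativeDimension [IrreducibleSpace ↥X] [LocallyOfFiniteType f] (n : ℕ)
    (hn : topologicalKrullDim ↥X = (n : WithBot ℕ∞))
    (h : ∀ x : ↥X, IsClosed ({x} : Set X) → IsRegularLocalRing ↑(X.presheaf.stalk x)) :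
    SmoothOfRelativeDimension n f := by
  refine Groth.Agent.Lefpen.H703.ClosedSmooth.smoothOfRelativeDimension_of_closed f n fun z hz => ⟨h z hz, ?_⟩
  rw [Groth.Agent.Divis.SurfConn.ringKrullDim_stalk_eq k X f z hz, hn]

/-- Over an algebraically closed field, an irreducible scheme of finite type is regular iff its sheaf of
differentials is locally free of rank the dimension. -/
theorem isFinLocFreeOfRank_omega_iff [IrreducibleSpace ↥X] [LocallyOfFiniteType f] [QuasiSeparated f] (n : ℕ)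
    (hn : topologicalKrullDim ↥X = (n : WithBot ℕ∞)) :
    FlatMod.IsFinLocFreeOfRank n (Omega.sheaf f) ↔ ∀ x : ↥X, IsRegularLocalRing ↑(X.presheaf.stalk x) := by
  constructor
  · intro h x
    rw [← Groth.Agent.VarietyA.SmoothReg.mem_smoothLocus_iff_of_perfectField f x]
    have hd : FlatMor.localDim X x = n := by
      rw [Groth.Agent.Vancyc.H687.Geo.localDim_eq f x]
      exact hn
    rw [Groth.Agent.SDiv.K474.FittOmega2.mem_smoothLocus_iff_of_isField (Field.toIsField k) f n x hd,
      ((Groth.Agent.SDiv.K474.FittLoc.isFinLocFreeOfRank_iff_fitting _ (Groth.Agent.Vancyc.H878.OmegaRank.isQCoh_omega f)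
        (Groth.Agent.SDiv.K474.FittOmega.isFT_omega f) n).1 h).2 n le_rfl]
    simp only [Scheme.IdealSheafData.support_top]
    exact fun h => h.elim
  · intro h
    have := smoothOfRelativeDimension f n hn (fun x _ => h x)
    exact Groth.Agent.Dual.H339.OmegaRank.isFinLocFreeOfRank_omega n f

end K284.OmegaReg
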