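import Groth.Agent.NonsingVar.K284.GenCmp
import Groth.Agent.WDiv.K654.OrdMap
import Mathlib.AlgebraicGeometry.ValuativeCriterion

/-!
# Function fields of birational schemes and centers of valuations
-/

set_option autoImplicit false
set_option backward.isDefEq.respectTransparency false

universe u

noncomputable section

open CategoryTheory CategoryTheory.Limits AlgebraicGeometry TopologicalSpace Opposite
open K475.GenStalk
open Groth.Agent.Fdesc Groth.Agent.CurvesB

namespace K284.Center

open K284.GenCmp

variable {X X' : Scheme.{u}} [IsIntegral X] [IsIntegral X']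
  (σ : X'.presheaf.stalk (η X') ≃+* X.presheaf.stalk (η X))

/-- Valuation rings of the function field have centers on universally closed schemes. -/
theorem exists_dom {S : Scheme.{u}} (f : X ⟶ S) (f' : X' ⟶ S) [UniversallyClosed f']
    (h : Spec.map (CommRingCat.ofHom (σ : X'.presheaf.stalk (η X') →+* X.presheaf.stalk (η X))) ≫
      X'.fromSpecStalk (η X') ≫ f' = X.fromSpecStalk (η X) ≫ f)
    (y : X) (hy : ValuationRing (X.presheaf.stalk y)) : ∃ x' : X', Dom σ x' y := by
  let sq : ValuativeCommSq f' :=
    { R := X.presheaf.stalk y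
      K := X.functionField
      i₁ := Spec.map (CommRingCat.ofHom (σ : X'.presheaf.stalk (η X') →+* X.presheaf.stalk (η X))) ≫
        X'.fromSpecStalk (η X')
      i₂ := X.fromSpecStalk y ≫ f
      commSq := ⟨by
        rw [Category.assoc, h, ← Category.assoc]
        congr 1
        exact (Scheme.SpecMap_stalkSpecializes_fromSpecStalk (spec y)).symm⟩ }
  have hE : ValuativeCriterion.Existence f' := by
    have := ‹UniversallyClosed f'›
    rw [UniversallyClosed.eq_valuativeCriterion] at this
    exact this.1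
  obtain ⟨⟨l, hl, -⟩⟩ := (hE sq).exists_lift
  have hl' : Spec.map (X.presheaf.stalkSpecializes (spec y)) ≫ l =
      Spec.map (CommRingCat.ofHom (σ : X'.presheaf.stalk (η X') →+* X.presheaf.stalk (η X))) ≫
        X'.fromSpecStalk (η X') := hl
  refine ⟨l (IsLocalRing.closedPoint (X.presheaf.stalk y)), ?_⟩
  have hst : Spec.map (Scheme.stalkClosedPointTo (R := X.presheaf.stalk y) l) ≫
      X'.fromSpecStalk (l (IsLocalRing.closedPoint (X.presheaf.stalk y))) = l :=
    Scheme.Spec_stalkClosedPointTo_fromSpecStalk (R := X.presheaf.stalk y) l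
  have h1 : Spec.map (X'.presheaf.stalkSpecializes
      (spec (l (IsLocalRing.closedPoint (X.presheaf.stalk y)))) ≫
        CommRingCat.ofHom (σ : X'.presheaf.stalk (η X') →+* X.presheaf.stalk (η X))) ≫
      X'.fromSpecStalk (l (IsLocalRing.closedPoint (X.presheaf.stalk y))) =
        Spec.map (Scheme.stalkClosedPointTo (R := X.presheaf.stalk y) l ≫
          X.presheaf.stalkSpecializes (spec y)) ≫
            X'.fromSpecStalk (l (IsLocalRing.closedPoint (X.presheaf.stalk y))) := by
    rw [Spec.map_comp, Category.assoc, Scheme.SpecMap_stalkSpecializes_fromSpecStalk, Spec.map_comp,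
      Category.assoc, hst, hl']
  rw [cancel_mono] at h1
  have h2 := Spec.map_injective h1
  intro a
  refine ⟨Scheme.stalkClosedPointTo (R := X.presheaf.stalk y) l a, ?_⟩
  exact (congr($h2 a)).symm

section open_

variable {W : Scheme.{u}} [IsIntegral W] (j : W ⟶ X) [IsOpenImmersion j] (j' : W ⟶ X')
  [IsOpenImmersion j']

theorem hgen : j (genericPoint W) = genericPoint X := genericPoint_eq_of_isOpenImmersion j

instance : IsIso (K654.OrdMap.ff j (hgen j)) := by
  have h1 : IsIso (X.presheaf.stalkSpecializes (specializes_of_eq (hgen j))) := by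
    refine ⟨X.presheaf.stalkSpecializes (genericPoint_specializes _), ?_, ?_⟩
    · rw [TopCat.Presheaf.stalkSpecializes_comp]
      exact X.presheaf.stalkSpecializes_refl _
    · rw [TopCat.Presheaf.stalkSpecializes_comp]
      exact X.presheaf.stalkSpecializes_refl _
  unfold K654.OrdMap.ff
  infer_instance

theorem spec_ff : Spec.map (K654.OrdMap.ff j (hgen j)) ≫ X.fromSpecStalk (η X) =
    W.fromSpecStalk (η W) ≫ j := by
  rw [K654.OrdMap.ff, Spec.map_comp, Category.assoc, Scheme.SpecMap_stalkSpecializes_fromSpecStalk,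
    Scheme.SpecMap_stalkMap_fromSpecStalk]

theorem ff_stHom {k : Type u} [Field k] (f : X ⟶ Spec (CommRingCat.of k)) (a : k) :
    (K654.OrdMap.ff j (hgen j)).hom (OmegaStalkDict.stHom f (η X) a) =
      OmegaStalkDict.stHom (j ≫ f) (η W) a := by
  have h0 : OmegaStalkDict.stHom f (η X) a =
      X.presheaf.germ ⊤ (η X) trivial (Coh.toGlobal f a) := rfl
  have h1 : X.presheaf.stalkSpecializes (specializes_of_eq (hgen j)) (OmegaStalkDict.stHom f (η X) a) =
      X.presheaf.germ ⊤ (j (η W)) trivial (Coh.toGlobal f a) := by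
    rw [h0]
    exact TopCat.Presheaf.germ_stalkSpecializes_apply X.presheaf (U := ⊤) (y := η X)
      (x := j (η W)) trivial (specializes_of_eq (hgen j)) (Coh.toGlobal f a)
  have h2 : j.stalkMap (η W) (X.presheaf.germ ⊤ (j (η W)) trivial (Coh.toGlobal f a)) =
      W.presheaf.germ ⊤ (η W) trivial (j.appTop (Coh.toGlobal f a)) :=
    Scheme.Hom.germ_stalkMap_apply j ⊤ (η W) trivial _
  refine (congrArg (j.stalkMap (η W)) h1).trans (h2.trans ?_)
  change _ = W.presheaf.germ ⊤ (η W) trivial (Coh.toGlobal (j ≫ f) a)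
  congr 1

/-- The isomorphism of function fields of a birational correspondence. -/
def sig : X'.presheaf.stalk (η X') ≃+* X.presheaf.stalk (η X) :=
  (asIso (K654.OrdMap.ff j' (hgen j'))).commRingCatIsoToRingEquiv.trans
    (asIso (K654.OrdMap.ff j (hgen j))).commRingCatIsoToRingEquiv.symm

theorem ff_sig (a : X'.presheaf.stalk (η X')) :
    (K654.OrdMap.ff j (hgen j)).hom (sig j j' a) = (K654.OrdMap.ff j' (hgen j')).hom a :=
  (asIso (K654.OrdMap.ff j (hgen j))).commRingCatIsoToRingEquiv.apply_symm_apply _

theorem sig_eq : CommRingCat.ofHom (sig j j' : X'.presheaf.stalk (η X') →+* X.presheaf.stalk (η X)) =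
    K654.OrdMap.ff j' (hgen j') ≫ inv (K654.OrdMap.ff j (hgen j)) := rfl

theorem sig_stHom {k : Type u} [Field k] (f : X ⟶ Spec (CommRingCat.of k))
    (f' : X' ⟶ Spec (CommRingCat.of k)) (h : j ≫ f = j' ≫ f') (a : k) :
    sig j j' (OmegaStalkDict.stHom f' (η X') a) = OmegaStalkDict.stHom f (η X) a := by
  apply (asIso (K654.OrdMap.ff j (hgen j))).commRingCatIsoToRingEquiv.injective
  refine (ff_sig j j' _).trans ?_
  rw [ff_stHom, ← h]
  exact (ff_stHom j f a).symm

theorem sig_over {S : Scheme.{u}} (f : X ⟶ S) (f' : X' ⟶ S) (h : j ≫ f = j' ≫ f') :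
    Spec.map (CommRingCat.ofHom (sig j j' : X'.presheaf.stalk (η X') →+* X.presheaf.stalk (η X))) ≫
      X'.fromSpecStalk (η X') ≫ f' = X.fromSpecStalk (η X) ≫ f := by
  rw [sig_eq, Spec.map_comp, Category.assoc, ← Category.assoc (Spec.map (K654.OrdMap.ff j' _)),
    spec_ff, Category.assoc, ← h, ← Category.assoc (W.fromSpecStalk _), ← spec_ff, Category.assoc,
    ← Category.assoc, ← Spec.map_comp]
  rw [IsIso.hom_inv_id, Spec.map_id]
  exact Category.id_comp _

end open_

end K284.Center
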