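import Groth.Agent.NonsingVar.K284.OmegaCmp
import Groth.Agent.NonsingVar.K284.Center
import Groth.Agent.NonsingVar.K284.OmegaReg
import Groth.Agent.Lefpen.H721.OmegaSec
import Groth.Agent.SDiv.K476.HomSh4
import Groth.Agent.Divis.StalkMod
import Groth.Agent.Divis.ReflexAlg
import Groth.Agent.PerfA.CohSerre
import Groth.Agent.KoszSh.K880.SameDiv
import Groth.Agent.S0002
import Groth.Agent.S2821

/-!
# Birational invariance of spaces of global forms
-/

set_option autoImplicit false
set_option backward.isDefEq.respectTransparency false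

universe u

noncomputable section

open CategoryTheory CategoryTheory.Limits AlgebraicGeometry TopologicalSpace Opposite
open K475.GenStalk
open Groth.Agent.Fdesc Groth.Agent.CurvesB

namespace K284.BirInv

open K284.GenCmp K284.Center

/-- A scheme with regular local rings is normal. -/
theorem isNormalScheme {X : Scheme.{u}} (hreg : ∀ x : X, IsRegularLocalRing (X.presheaf.stalk x)) :
    Pi1.IsNormalScheme X := by
  intro x
  have := hreg x
  obtain ⟨h1, h2⟩ := Groth.Agent.S2821.result (X.presheaf.stalk x)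
  exact ⟨h1, inferInstance⟩

/-- Finite locally free modules are reflexive. -/
theorem isReflexive {X : Scheme.{u}} [IsLocallyNoetherian X] {F : X.Modules} (hF : FlatMod.IsFinLocFree F) :
    RefHull.IsReflexive F := by
  have hc : Coh.IsCoh F := Groth.Agent.PerfA.CohSerre.isCoh_of_isFinLocFree hF
  refine (K476.HomSh4.isReflexive_iff_isReflexiveAt hc).2 fun x => ?_
  obtain ⟨h1, h2⟩ := Groth.Agent.Divis.StalkMod.finite_free_stalk hc.1 hF x
  change Module.IsReflexive (X.presheaf.stalk x) (F.presheaf.stalk x)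
  infer_instance

variable {k : Type u} [Field k]
  {X X' : Scheme.{u}} [X.Over (Spec (CommRingCat.of k))] [X'.Over (Spec (CommRingCat.of k))]
  [IsIntegral X] [IsIntegral X']
  [IsProper (X ↘ (Spec (CommRingCat.of k)))] [IsProper (X' ↘ (Spec (CommRingCat.of k)))]
  {W : Scheme.{u}} [IsIntegral W] (j : W ⟶ X) [IsOpenImmersion j] (j' : W ⟶ X') [IsOpenImmersion j']

/-- One inequality, for locally free modules with comparable generic stalks. -/
theorem le_of (hreg : ∀ x : X, IsRegularLocalRing (X.presheaf.stalk x))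
    (h : j ≫ (X ↘ (Spec (CommRingCat.of k))) = j' ≫ (X' ↘ (Spec (CommRingCat.of k))))
    {F : X.Modules} {F' : X'.Modules} (hF : FlatMod.IsFinLocFree F) (hF' : FlatMod.IsFinLocFree F')
    (c : Cmp (sig j j') F' F) :
    Module.finrank k (Coh.HH X' F' 0) ≤ Module.finrank k (Coh.HH X F 0) := by
  have : IsLocallyNoetherian X := LocallyOfFiniteType.isLocallyNoetherian (X ↘ (Spec (CommRingCat.of k)))
  have : IsLocallyNoetherian X' := LocallyOfFiniteType.isLocallyNoetherian (X' ↘ (Spec (CommRingCat.of k)))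
  have hc : Coh.IsCoh F := Groth.Agent.PerfA.CohSerre.isCoh_of_isFinLocFree hF
  have hc' : Coh.IsCoh F' := Groth.Agent.PerfA.CohSerre.isCoh_of_isFinLocFree hF'
  have : Module.Finite k (Coh.HH X F 0) := Groth.Agent.S0002.result k X F hc 0
  refine finrank_le k (sig_stHom j j' _ _ h) c (K476.Ref1.inj_of_isReflexive hc' (isReflexive hF'))
    (isNormalScheme hreg) hc (isReflexive hF) fun y hy => ?_
  refine exists_dom _ _ _ (sig_over j j' _ _ h) y ?_
  have := hreg y
  have := (isNormalScheme hreg y).1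
  have := Groth.Agent.Divis.ReflexAlg.isPrincipalIdealRing_of_isRegularLocalRing hy.le
  infer_instance

variable [IsAlgClosed k]

theorem le_extPow (hreg : ∀ x : X, IsRegularLocalRing (X.presheaf.stalk x))
    (hreg' : ∀ x : X', IsRegularLocalRing (X'.presheaf.stalk x)) (n : ℕ)
    (hn : topologicalKrullDim X = n) (hn' : topologicalKrullDim X' = n)
    (h : j ≫ (X ↘ (Spec (CommRingCat.of k))) = j' ≫ (X' ↘ (Spec (CommRingCat.of k))))
    {q : ℕ} {L : X.Modules} {L' : X'.Modules}
    (hL : ExtPow.IsExtPow q (Omega.sheaf (X ↘ (Spec (CommRingCat.of k)))) L)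
    (hL' : ExtPow.IsExtPow q (Omega.sheaf (X' ↘ (Spec (CommRingCat.of k)))) L') :
    Module.finrank k (Coh.HH X' L' 0) ≤ Module.finrank k (Coh.HH X L 0) := by
  have h1 := K284.OmegaReg.smoothOfRelativeDimension (X ↘ (Spec (CommRingCat.of k))) n hn (fun x _ => hreg x)
  have h1' := K284.OmegaReg.smoothOfRelativeDimension (X' ↘ (Spec (CommRingCat.of k))) n hn'
    (fun x _ => hreg' x)
  have : Smooth (X ↘ (Spec (CommRingCat.of k))) := SmoothOfRelativeDimension.smooth n _
  have : Smooth (X' ↘ (Spec (CommRingCat.of k))) := SmoothOfRelativeDimension.smooth n _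
  obtain ⟨c⟩ := OmegaCmp.exists_cmp (sig j j') _ _ (sig_stHom j j' _ _ h) hL hL'
  exact le_of j j' hreg h (Groth.Agent.Lefpen.H721.OmegaSec.isFinLocFree_of_isExtPow_omega _ hL)
    (Groth.Agent.Lefpen.H721.OmegaSec.isFinLocFree_of_isExtPow_omega _ hL') c

theorem le_tensorPow (hreg : ∀ x : X, IsRegularLocalRing (X.presheaf.stalk x))
    (hreg' : ∀ x : X', IsRegularLocalRing (X'.presheaf.stalk x)) (n : ℕ)
    (hn : topologicalKrullDim X = n) (hn' : topologicalKrullDim X' = n)
    (h : j ≫ (X ↘ (Spec (CommRingCat.of k))) = j' ≫ (X' ↘ (Spec (CommRingCat.of k))))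
    {q : ℕ} {L : X.Modules} {L' : X'.Modules}
    (hL : ExtPow.IsExtPow q (Omega.sheaf (X ↘ (Spec (CommRingCat.of k)))) L)
    (hL' : ExtPow.IsExtPow q (Omega.sheaf (X' ↘ (Spec (CommRingCat.of k)))) L') (m : ℕ) :
    Module.finrank k (Coh.HH X' (CohB1.tensorPow L' m) 0) ≤
      Module.finrank k (Coh.HH X (CohB1.tensorPow L m) 0) := by
  have h1 := K284.OmegaReg.smoothOfRelativeDimension (X ↘ (Spec (CommRingCat.of k))) n hn (fun x _ => hreg x)
  have h1' := K284.OmegaReg.smoothOfRelativeDimension (X' ↘ (Spec (CommRingCat.of k))) n hn'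
    (fun x _ => hreg' x)
  have : Smooth (X ↘ (Spec (CommRingCat.of k))) := SmoothOfRelativeDimension.smooth n _
  have : Smooth (X' ↘ (Spec (CommRingCat.of k))) := SmoothOfRelativeDimension.smooth n _
  obtain ⟨c⟩ := OmegaCmp.exists_cmp (sig j j') _ _ (sig_stHom j j' _ _ h) hL hL'
  exact le_of j j' hreg h
    (K880.SameDiv.isFinLocFree_tpow (Groth.Agent.Lefpen.H721.OmegaSec.isFinLocFree_of_isExtPow_omega _ hL) m)
    (K880.SameDiv.isFinLocFree_tpow (Groth.Agent.Lefpen.H721.OmegaSec.isFinLocFree_of_isExtPow_omega _ hL') m)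
    (c.pow m)

theorem isIntegral_opens {Z : Scheme.{u}} [IsIntegral Z] (U : Z.Opens) (hU : (U : Set Z).Nonempty) :
    IsIntegral (U : Scheme.{u}) := by
  have : Nonempty (U : Scheme.{u}) := hU.to_subtype
  exact isIntegral_of_isOpenImmersion U.ι

end K284.BirInv
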