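import Groth.Agent.SDiv.K476.Codim1Fin
import Groth.Agent.SDiv.K476.TensStalk
import Groth.Agent.Picfga.ChiCech
import Groth.Agent.CurvesB.OmegaGeneric
import Mathlib.LinearAlgebra.TensorProduct.Map

/-!
# Comparison of global sections through the generic stalks

`X`, `X'` integral schemes with an isomorphism `σ` of function fields.  `Cmp σ F' F` is a `σ`-semilinear
isomorphism of generic stalks `F'_η' ≃ F_η` carrying the stalk of `F'` at `x'` into the stalk of `F` at `y`
whenever `O_{X',x'} ⊆ O_{X,y}` (`Dom σ x' y`).  Compatible with tensor products and tensor powers; if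
`F` is reflexive on a normal scheme and every codimension one point `y` of `X` dominates some `x'`, then
`dim H⁰(X', F') ≤ dim H⁰(X, F)`.
-/

set_option autoImplicit false
set_option backward.isDefEq.respectTransparency false

universe u

noncomputable section

open CategoryTheory CategoryTheory.Limits AlgebraicGeometry TopologicalSpace Opposite
open K475.GenStalk K476.TensStalk RefHull
open Groth.Agent.Fdesc Groth.Agent.CurvesB

namespace K284.GenCmp

variable {X X' : Scheme.{u}} [IsIntegral X] [IsIntegral X']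
  (σ : X'.presheaf.stalk (η X') ≃+* X.presheaf.stalk (η X))

/-- `O_{X',x'} ⊆ O_{X,y}` inside the function field. -/
def Dom (x' : X') (y : X) : Prop :=
  ∀ a : X'.presheaf.stalk x', ∃ b : X.presheaf.stalk y,
    X.presheaf.stalkSpecializes (spec y) b = σ (X'.presheaf.stalkSpecializes (spec x') a)

instance pair : RingHomInvPair (σ : X'.presheaf.stalk (η X') →+* X.presheaf.stalk (η X))
    (σ.symm : X.presheaf.stalk (η X) →+* X'.presheaf.stalk (η X')) :=
  RingHomInvPair.of_ringEquiv σ

instance pair' : RingHomInvPair (σ.symm : X.presheaf.stalk (η X) →+* X'.presheaf.stalk (η X'))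
    (σ : X'.presheaf.stalk (η X') →+* X.presheaf.stalk (η X)) :=
  RingHomInvPair.of_ringEquiv σ.symm

/-- A comparison of generic stalks. -/
structure Cmp (F' : X'.Modules) (F : X.Modules) where
  /-- the isomorphism of generic stalks -/
  e : F'.presheaf.stalk (η X') ≃ₛₗ[(σ : X'.presheaf.stalk (η X') →+* X.presheaf.stalk (η X))]
    F.presheaf.stalk (η X)
  mem : ∀ (x' : X') (y : X), Dom σ x' y → ∀ m : F'.presheaf.stalk x',
    e (F'.presheaf.stalkSpecializes (spec x') m) ∈ Set.range (F.presheaf.stalkSpecializes (spec y))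

/-- The structure sheaves. -/
def Cmp.unit : Cmp σ (Coh.structureModule X') (Coh.structureModule X) where
  e := ((StructMod.stalkEquiv (η X')).symm.trans σ.toSemilinearEquiv).trans
    (StructMod.stalkEquiv (η X))
  mem x' y h m := by
    obtain ⟨a, rfl⟩ := (StructMod.stalkEquiv x').surjective m
    obtain ⟨b, hb⟩ := h a
    refine ⟨StructMod.stalkEquiv y b, ?_⟩
    rw [OmegaGeneric.stalkSpecializes_stalkEquiv, OmegaGeneric.stalkSpecializes_stalkEquiv, hb]
    simp

variable {σ}

/-- Tensor products. -/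
def Cmp.tens {F' G' : X'.Modules} {F G : X.Modules} (c : Cmp σ F' F) (d : Cmp σ G' G) :
    Cmp σ (CohB1.tensorMod F' G') (CohB1.tensorMod F G) where
  e := ((tensEquiv F' G' (η X')).symm.trans (TensorProduct.congr c.e d.e)).trans (tensEquiv F G (η X))
  mem x' y h m := by
    induction m using stmul_induction with
    | h0 =>
      refine ⟨0, ?_⟩
      rw [map_zero, map_zero, map_zero]
    | h a b =>
      obtain ⟨a₁, ha⟩ := c.mem x' y h a
      obtain ⟨b₁, hb⟩ := d.mem x' y h b
      refine ⟨stmul a₁ b₁, ?_⟩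
      rw [stalkSpecializes_stmul, stalkSpecializes_stmul, ha, hb, stmul_def, stmul_def]
      simp
    | ha u v hu hv =>
      obtain ⟨u₁, hu⟩ := hu
      obtain ⟨v₁, hv⟩ := hv
      refine ⟨u₁ + v₁, ?_⟩
      rw [map_add, map_add, map_add, hu, hv]

/-- Tensor powers. -/
def Cmp.pow {F' : X'.Modules} {F : X.Modules} (c : Cmp σ F' F) :
    ∀ m : ℕ, Cmp σ (CohB1.tensorPow F' m) (CohB1.tensorPow F m)
  | 0 => Cmp.unit σ
  | m + 1 => (c.pow m).tens c

section main

open Groth.Agent.Picfga.ChiCech

variable (k : Type u) [Field k] [X.Over (Spec (CommRingCat.of k))] [X'.Over (Spec (CommRingCat.of k))]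

theorem germ_smul_top (F : X.Modules) (a : k) (s : Γ(F, ⊤)) :
    F.presheaf.germ ⊤ (η X) trivial (str k (⊤ : X.Opens) a • s) =
      (OmegaStalkDict.stHom (X ↘ Spec (CommRingCat.of k)) (η X) a : X.presheaf.stalk (η X)) •
        F.presheaf.germ ⊤ (η X) trivial s := by
  refine (QCohStalk.germ_smul' F (η X) _ _ _).trans ?_
  congr 1
  exact OmegaStalkDict.germ_secHom (X ↘ Spec (CommRingCat.of k)) ⊤ (η X) trivial a

/-- **Comparison of global sections.** -/
theorem exists_linearMap
    (hσ : ∀ a : k, σ (OmegaStalkDict.stHom (X' ↘ Spec (CommRingCat.of k)) (η X') a) =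
      OmegaStalkDict.stHom (X ↘ Spec (CommRingCat.of k)) (η X) a)
    {F' : X'.Modules} {F : X.Modules} (c : Cmp σ F' F) (hF' : Inj F') [IsLocallyNoetherian X]
    (hX : Pi1.IsNormalScheme X) (hF : Coh.IsCoh F) (hr : IsReflexive F)
    (hd : ∀ y : X, ringKrullDim (X.presheaf.stalk y) = 1 → ∃ x' : X', Dom σ x' y) :
    ∃ T : SecA k F' ⊤ →ₗ[k] SecA k F ⊤, Function.Injective T := by
  have hI : Inj F := K476.Ref1.inj_of_isReflexive hF hr
  have key : ∀ s : Γ(F', ⊤), ∃ t : Γ(F, ⊤), F.presheaf.germ ⊤ (η X) trivial t =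
      c.e (F'.presheaf.germ ⊤ (η X') trivial s) := by
    intro s
    obtain ⟨t, ht⟩ := K476.Codim1Fin.exists_section_of_codim_one hX hF hr ⊤
      (c.e (F'.presheaf.germ ⊤ (η X') trivial s)) (fun y _ hy => by
        obtain ⟨x', hx'⟩ := hd y hy
        have := c.mem x' y hx' (F'.presheaf.germ ⊤ x' trivial s)
        rwa [germ_spec] at this)
    exact ⟨t, ht trivial⟩
  choose T hT using key
  have ext : ∀ s t : Γ(F, ⊤), F.presheaf.germ ⊤ (η X) trivial s = F.presheaf.germ ⊤ (η X) trivial t →
      s = t := fun s t h => section_ext hI fun _ => h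
  have hadd : ∀ s t : Γ(F', ⊤), T (s + t) = T s + T t := by
    intro s t
    apply ext
    rw [map_add, hT, hT, hT, map_add, map_add]
  have hsmul : ∀ (a : k) (s : Γ(F', ⊤)),
      T (str k (⊤ : X'.Opens) a • s) = str k (⊤ : X.Opens) a • T s := by
    intro a s
    apply ext
    rw [hT, germ_smul_top, germ_smul_top, LinearEquiv.map_smulₛₗ, hT]
    congr 1
    exact hσ a
  refine ⟨{ toFun := fun s => toSecA (T (toSecA.symm s)), map_add' := fun s t => hadd s t, map_smul' := fun a s => hsmul a s }, ?_⟩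
  intro s t h
  have h1 : T (toSecA.symm s) = T (toSecA.symm t) := h
  have h2 := hT (toSecA.symm s)
  rw [h1, hT] at h2
  exact section_ext (s := toSecA.symm s) (t := toSecA.symm t) hF' fun _ => (c.e.injective h2).symm

theorem finrank_le
    (hσ : ∀ a : k, σ (OmegaStalkDict.stHom (X' ↘ Spec (CommRingCat.of k)) (η X') a) =
      OmegaStalkDict.stHom (X ↘ Spec (CommRingCat.of k)) (η X) a)
    {F' : X'.Modules} {F : X.Modules} (c : Cmp σ F' F) (hF' : Inj F') [IsLocallyNoetherian X]
    (hX : Pi1.IsNormalScheme X) (hF : Coh.IsCoh F) (hr : IsReflexive F)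
    (hd : ∀ y : X, ringKrullDim (X.presheaf.stalk y) = 1 → ∃ x' : X', Dom σ x' y)
    [Module.Finite k (Coh.HH X F 0)] :
    Module.finrank k (Coh.HH X' F' 0) ≤ Module.finrank k (Coh.HH X F 0) := by
  obtain ⟨T, hT⟩ := exists_linearMap k hσ c hF' hX hF hr hd
  have h : Function.Injective ((h0Top k F).symm.toLinearMap ∘ₗ T ∘ₗ (h0Top k F').toLinearMap) :=
    (h0Top k F).symm.injective.comp (hT.comp (h0Top k F').injective)
  exact LinearMap.finrank_le_finrank_of_injective h

end main

end K284.GenCmp
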