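import Groth.Agent.NonsingVar.K284.OmegaExt

/-!
# Comparison of the generic stalks of the sheaves of `q`-forms
-/

set_option autoImplicit false
set_option backward.isDefEq.respectTransparency false

universe u

noncomputable section

open CategoryTheory CategoryTheory.Limits AlgebraicGeometry TopologicalSpace Opposite
open K475.GenStalk
open Groth.Agent.Fdesc Groth.Agent.CurvesB OmegaStalkDict OmegaDer

namespace K284.OmegaCmp

open K284.GenCmp

variable {X X' : Scheme.{u}} [IsIntegral X] [IsIntegral X']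
  (σ : X'.presheaf.stalk (η X') ≃+* X.presheaf.stalk (η X))
  {k : Type u} [Field k] (f : X ⟶ Spec (CommRingCat.of k)) [QuasiCompact (pullback.diagonal f)]
  (f' : X' ⟶ Spec (CommRingCat.of k)) [QuasiCompact (pullback.diagonal f')]

theorem exists_sig (hσ : ∀ a : k, σ (stHom f' (η X') a) = stHom f (η X) a) :
    ∃ g : (Omega.sheaf f').presheaf.stalk (η X') ≃ₛₗ[(σ : X'.presheaf.stalk (η X') →+*
        X.presheaf.stalk (η X))] (Omega.sheaf f).presheaf.stalk (η X),
      ∀ a, g (dSt f' (η X') a) = dSt f (η X) (σ a) := by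
  let := stAlg f (η X)
  let := stMod f (Omega.sheaf f) (η X)
  have := stTower f (Omega.sheaf f) (η X)
  let := stAlg f' (η X')
  let := stMod f' (Omega.sheaf f') (η X')
  have := stTower f' (Omega.sheaf f') (η X')
  exact SemiExt.exists_semiEquiv σ hσ (stDer f' (η X')) (bijective_stDer f' (η X'))
    (stDer f (η X)) (bijective_stDer f (η X))

variable {L : X.Modules} {L' : X'.Modules} {q : ℕ}

theorem exists_cmp (hσ : ∀ a : k, σ (stHom f' (η X') a) = stHom f (η X) a)
    (hL : ExtPow.IsExtPow q (Omega.sheaf f) L) (hL' : ExtPow.IsExtPow q (Omega.sheaf f') L') :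
    Nonempty (Cmp σ L' L) := by
  obtain ⟨g, hg⟩ := exists_sig σ f f' hσ
  obtain ⟨G, hG⟩ := SemiExt.exists_extEquiv q g
  obtain ⟨τ, -, hB⟩ := OmegaExt.exists_gen f hL
  obtain ⟨τ', hA', -⟩ := OmegaExt.exists_gen f' hL'
  refine ⟨⟨(τ'.trans G).trans τ.symm, fun x' y h m => ?_⟩⟩
  let P : AddSubmonoid (⋀[X'.presheaf.stalk (η X')]^q ((Omega.sheaf f').presheaf.stalk (η X'))) :=
    { carrier := {v | τ.symm (G v) ∈ Set.range (L.presheaf.stalkSpecializes (spec y))}
      zero_mem' := ⟨0, by rw [map_zero, map_zero, map_zero]⟩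
      add_mem' := by
        rintro a b ⟨a', ha⟩ ⟨b', hb⟩
        exact ⟨a' + b', by rw [map_add, map_add, map_add, ha, hb]⟩ }
  refine hA' x' m P ?_ ?_
  · rintro b v ⟨v', hv⟩
    obtain ⟨c, hc⟩ := h b
    refine ⟨c • v', ?_⟩
    rw [OmegaGeneric.stalkSpecializes_smul, hc, hv, LinearEquiv.map_smulₛₗ, map_smul]
    rfl
  · intro a
    choose c hc using fun j => h (a j)
    obtain ⟨m', hm'⟩ := hB y c
    refine ⟨m', ?_⟩
    rw [hG, LinearEquiv.eq_symm_apply, hm']
    congr 1
    funext j
    rw [hg, hc]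

end K284.OmegaCmp
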