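import Groth.Agent.NonsingVar.K284.SemiExt
import Groth.Agent.NonsingVar.K284.GenCmp
import Groth.Agent.RefCh.K939.ExtStalk

/-!
# The generic stalk of an exterior power of the sheaf of differentials
-/

set_option autoImplicit false
set_option backward.isDefEq.respectTransparency false

universe u

noncomputable section

open CategoryTheory CategoryTheory.Limits AlgebraicGeometry TopologicalSpace Opposite
open K475.GenStalk
open Groth.Agent.Fdesc Groth.Agent.CurvesB Groth.Agent.Sga67.Sec Groth.Agent.Sga67.ExtSheaf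
open Groth.Agent.Krr.H495.ExtSemi Groth.Agent.Krr.H495.ExtPre K939.ExtStalk

namespace K284.OmegaExt

variable {X : Scheme.{u}} [IsIntegral X] {E L : X.Modules} {q : ℕ}

theorem germ_res' (M : X.Modules) {U V : X.Opens} (h : V ≤ U) (x : X) (hx : x ∈ V) (s : Sec M U) :
    M.presheaf.germ V x hx (res M h s) = M.presheaf.germ U x (h hx) s :=
  QCohStalk.germ_map M h x hx s

/-- The identifications of the generic stalk attached to nested affine opens agree. -/
theorem tau_eq (hL : Coh.IsQCoh L) (φ : Phi q E L) (hφ : PhiComp φ) {U V : X.affineOpens} (h : V.1 ≤ U.1)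
    (hV : η X ∈ V.1)
    (τU τV : L.presheaf.stalk (η X) ≃ₗ[X.presheaf.stalk (η X)]
      ⋀[X.presheaf.stalk (η X)]^q (E.presheaf.stalk (η X)))
    (hτU : ∀ s : Sec L U.1, τU (L.presheaf.germ U.1 (η X) (h hV) s) =
      extS q (germS E (η X) (h hV)) (φ U s))
    (hτV : ∀ s : Sec L V.1, τV (L.presheaf.germ V.1 (η X) hV s) =
      extS q (germS E (η X) hV) (φ V s)) (t : L.presheaf.stalk (η X)) : τU t = τV t := by
  have key : ∀ s : Sec L U.1, τU (L.presheaf.germ U.1 (η X) (h hV) s) =
      τV (L.presheaf.germ U.1 (η X) (h hV) s) := by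
    intro s
    rw [hτU, ← germ_res' L h (η X) hV s, hτV, phi_res φ hφ h]
    generalize φ U s = z
    have hz : z ∈ Submodule.span Γ(X, U.1)
        (Set.range (exteriorPower.ιMulti Γ(X, U.1) q (M := Sec E U.1))) := by
      rw [exteriorPower.ιMulti_span]; trivial
    induction hz using Submodule.span_induction with
    | mem x hx =>
      obtain ⟨e, rfl⟩ := hx
      rw [eres_ιMulti, extS_ιMulti, extS_ιMulti]
      congr 1
      funext j
      exact (germ_res' E h (η X) hV (e j)).symm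
    | zero => simp only [map_zero]
    | add x y _ _ hx hy => simp only [map_add, hx, hy]
    | smul a x _ hx =>
      rw [LinearMap.map_smulₛₗ, LinearMap.map_smulₛₗ, LinearMap.map_smulₛₗ, hx]
      congr 1
      exact (QCohStalk.ring_germ_map h (η X) hV a).symm
  obtain ⟨a, s, ha, hs⟩ := QCohStalk.exists_germ_eq_smul L U.2 hL (η X) (h hV) t
  have hu : IsUnit (X.presheaf.germ U.1 (η X) (h hV) a) := (X.mem_basicOpen a (η X) (h hV)).mp ha
  have h1 := key s
  rw [hs, map_smul, map_smul] at h1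
  exact (hu.smul_left_cancel).1 h1

/-- The generic stalk of an exterior power, against all affine opens. -/
theorem exists_tau (hE : Coh.IsQCoh E) (hL : Coh.IsQCoh L) (φ : Phi q E L) (hφ : PhiComp φ) :
    ∃ τ : L.presheaf.stalk (η X) ≃ₗ[X.presheaf.stalk (η X)]
      ⋀[X.presheaf.stalk (η X)]^q (E.presheaf.stalk (η X)),
      ∀ (U : X.affineOpens) (hU : η X ∈ U.1) (s : Sec L U.1),
        τ (L.presheaf.germ U.1 (η X) hU s) = extS q (germS E (η X) hU) (φ U s) := by
  obtain ⟨_, ⟨U₀, hU₀, rfl⟩, h₀, -⟩ := X.isBasis_affineOpens.exists_subset_of_mem_open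
    (Set.mem_univ (η X)) isOpen_univ
  obtain ⟨τ, hτ⟩ := exists_stalkEquiv hE hL φ (η X) ⟨U₀, hU₀⟩ h₀
  refine ⟨τ, fun U hU s => ?_⟩
  obtain ⟨τU, hτU⟩ := exists_stalkEquiv hE hL φ (η X) U hU
  obtain ⟨_, ⟨V, hV, rfl⟩, hxV, hVU⟩ := X.isBasis_affineOpens.exists_subset_of_mem_open
    (show η X ∈ (U₀ ⊓ U.1 : X.Opens) from ⟨h₀, hU⟩) (U₀ ⊓ U.1 : X.Opens).isOpen
  obtain ⟨τV, hτV⟩ := exists_stalkEquiv hE hL φ (η X) ⟨V, hV⟩ hxV
  have h1 := tau_eq hL φ hφ (U := ⟨U₀, hU₀⟩) (V := ⟨V, hV⟩) (fun x hx => (hVU hx).1) hxV τ τV hτ hτV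
  have h2 := tau_eq hL φ hφ (U := U) (V := ⟨V, hV⟩) (fun x hx => (hVU hx).2) hxV τU τV hτU hτV
  rw [h1, ← h2, hτU]

/-- Finitely many stalk elements are germs over a common affine open. -/
theorem exists_common_affine {n : ℕ} (x : X) (a : Fin n → X.presheaf.stalk x) :
    ∃ (U : X.affineOpens) (hx : x ∈ U.1) (b : Fin n → Γ(X, U.1)),
      ∀ j, X.presheaf.germ U.1 x hx (b j) = a j := by
  have h : ∀ (n : ℕ) (a : Fin n → X.presheaf.stalk x), ∃ (U : X.Opens) (hx : x ∈ U),
      ∀ j, ∃ b : Γ(X, U), X.presheaf.germ U x hx b = a j := by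
    intro n
    induction n with
    | zero => exact fun a => ⟨⊤, trivial, fun j => j.elim0⟩
    | succ n ih =>
      intro a
      obtain ⟨U, hU, hb⟩ := ih (fun j => a j.castSucc)
      obtain ⟨V, hV, c, hc⟩ := TopCat.Presheaf.exists_germ_eq X.presheaf (a (Fin.last n))
      have hx : x ∈ U ⊓ V := ⟨hU, hV⟩
      refine ⟨U ⊓ V, hx, fun j => ?_⟩
      refine Fin.lastCases ?_ (fun j => ?_) j
      · exact ⟨X.presheaf.map (homOfLE inf_le_right).op c,
          (QCohStalk.ring_germ_map (inf_le_right : U ⊓ V ≤ V) x hx c).trans hc⟩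
      · obtain ⟨b, hb⟩ := hb j
        exact ⟨X.presheaf.map (homOfLE inf_le_left).op b,
          (QCohStalk.ring_germ_map (inf_le_left : U ⊓ V ≤ U) x hx b).trans hb⟩
  obtain ⟨U, hx, hb⟩ := h n a
  choose b hb using hb
  obtain ⟨_, ⟨V, hV, rfl⟩, hxV, hVU⟩ := X.isBasis_affineOpens.exists_subset_of_mem_open hx U.isOpen
  have hVU' : V ≤ U := hVU
  exact ⟨⟨V, hV⟩, hxV, fun j => X.presheaf.map (homOfLE hVU').op (b j), fun j =>
    (QCohStalk.ring_germ_map hVU' x hxV (b j)).trans (hb j)⟩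

section Omega

variable {k : Type u} [Field k] (f : X ⟶ Spec (CommRingCat.of k))
  [QuasiCompact (pullback.diagonal f)]

open OmegaStalkDict OmegaDer

theorem span_d {U : X.Opens} (hU : IsAffineOpen U) :
    Submodule.span Γ(X, U) (Set.range (fun a : Γ(X, U) => (d f U a : Γ(Omega.sheaf f, U)))) = ⊤ := by
  let := secAlg f U
  let := secMod f (Omega.sheaf f) U
  have := secTower f (Omega.sheaf f) U
  exact SemiExt.span_range (secDer f U) (bijective_secDer f hU).2

variable {L : X.Modules}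

/-- The generic stalk of `Λ^q Ω`: description of the stalks. -/
theorem exists_gen (hL : ExtPow.IsExtPow q (Omega.sheaf f) L) :
    ∃ τ : L.presheaf.stalk (η X) ≃ₗ[X.presheaf.stalk (η X)]
      ⋀[X.presheaf.stalk (η X)]^q ((Omega.sheaf f).presheaf.stalk (η X)),
      (∀ (x : X) (m : L.presheaf.stalk x)
        (P : AddSubmonoid (⋀[X.presheaf.stalk (η X)]^q ((Omega.sheaf f).presheaf.stalk (η X)))),
        (∀ (b : X.presheaf.stalk x), ∀ v ∈ P, X.presheaf.stalkSpecializes (spec x) b • v ∈ P) →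
        (∀ a : Fin q → X.presheaf.stalk x, exteriorPower.ιMulti (X.presheaf.stalk (η X)) q
          (fun j => dSt f (η X) (X.presheaf.stalkSpecializes (spec x) (a j))) ∈ P) →
        τ (L.presheaf.stalkSpecializes (spec x) m) ∈ P) ∧
      (∀ (x : X) (a : Fin q → X.presheaf.stalk x), ∃ m : L.presheaf.stalk x,
        τ (L.presheaf.stalkSpecializes (spec x) m) = exteriorPower.ιMulti (X.presheaf.stalk (η X)) q
          (fun j => dSt f (η X) (X.presheaf.stalkSpecializes (spec x) (a j)))) := by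
  obtain ⟨φ, hφ⟩ := exists_phi hL
  have hLq : Coh.IsQCoh L := isQCoh_of_isExtPow (isQCoh_omega f) hL
  obtain ⟨τ, hτ⟩ := exists_tau (isQCoh_omega f) hLq φ hφ
  have hη : ∀ {U : X.Opens} {x : X}, x ∈ U → η X ∈ U := fun hx => mem_of_nonempty hx
  have hO : ∀ {U : X.Opens} (x : X) (hx : x ∈ U) (a : Γ(X, U)),
      X.presheaf.stalkSpecializes (spec x) (X.presheaf.germ U x hx a) =
        X.presheaf.germ U (η X) (hη hx) a := fun x hx a =>
    TopCat.Presheaf.germ_stalkSpecializes_apply X.presheaf hx (spec x) a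
  refine ⟨τ, ?_, ?_⟩
  · intro x m P hP hg
    obtain ⟨_, ⟨U, hU, rfl⟩, hx, -⟩ := X.isBasis_affineOpens.exists_subset_of_mem_open
      (Set.mem_univ x) isOpen_univ
    obtain ⟨a, s, ha, hs⟩ := QCohStalk.exists_germ_eq_smul L hU hLq x hx m
    have hu : IsUnit (X.presheaf.germ U x hx a) := (X.mem_basicOpen a x hx).mp ha
    have h1 : τ (L.presheaf.germ U (η X) (hη hx) s) ∈ P := by
      rw [hτ ⟨U, hU⟩ (hη hx) s]
      refine SemiExt.extS_mem q _ (span_d f hU) P ?_ ?_ _
      · intro c v hv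
        have := hP (X.presheaf.germ U x hx c) v hv
        rwa [hO] at this
      · intro t ht
        choose b hb using ht
        have := hg fun j => X.presheaf.germ U x hx (b j)
        convert this using 3 with j
        rw [hO, dSt_germ]
        exact congrArg _ (hb j).symm
    rw [← germ_spec L x hx s, hs, OmegaGeneric.stalkSpecializes_smul] at h1
    obtain ⟨c, hc⟩ := hu.exists_left_inv
    have h2 := hP c _ h1
    have h3 := congrArg (X.presheaf.stalkSpecializes (spec x)) hc
    rw [map_mul, map_one] at h3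
    rw [map_smul, smul_smul, h3, one_smul] at h2
    exact h2
  · intro x a
    obtain ⟨U, hx, b, hb⟩ := exists_common_affine x a
    refine ⟨L.presheaf.germ U.1 x hx ((φ U).symm (exteriorPower.ιMulti _ q fun j => d f U.1 (b j))), ?_⟩
    rw [germ_spec, hτ U (hη hx), LinearEquiv.apply_symm_apply, extS_ιMulti]
    congr 1
    funext j
    rw [← hb j, hO, dSt_germ]
    rfl

end Omega

end K284.OmegaExt
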