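import Groth.Agent.Krr.H495.ExtSemi
import Mathlib.RingTheory.Kaehler.Basic
import Mathlib.LinearAlgebra.TensorProduct.Map

/-!
# Semilinear maps of differentials and of their exterior powers
-/

set_option autoImplicit false

universe u

noncomputable section

namespace K284.SemiExt

open Groth.Agent.Krr.H495.ExtSemi

section Der

variable {R A B M' M : Type*} [CommRing R] [CommRing A] [CommRing B] [Algebra R A] [Algebra R B]
  [AddCommGroup M'] [Module A M'] [Module R M'] [IsScalarTower R A M']
  [AddCommGroup M] [Module B M] [Module R M] [IsScalarTower R B M]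

/-- A module with a derivation through which all of `Ω` factors onto is spanned by the differentials. -/
theorem span_range (D' : Derivation R A M') (hs : Function.Surjective D'.liftKaehlerDifferential) :
    Submodule.span A (Set.range D') = ⊤ := by
  rw [eq_top_iff]
  rintro m -
  obtain ⟨ω, rfl⟩ := hs m
  have h : ω ∈ Submodule.span A (Set.range (KaehlerDifferential.D R A)) := by
    rw [KaehlerDifferential.span_range_derivation]; trivial
  induction h using Submodule.span_induction with
  | mem x hx =>
    obtain ⟨a, rfl⟩ := hx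
    rw [Derivation.liftKaehlerDifferential_comp_D]
    exact Submodule.subset_span ⟨a, rfl⟩
  | zero => rw [map_zero]; exact zero_mem _
  | add x y _ _ hx hy => rw [map_add]; exact add_mem hx hy
  | smul a x _ hx => rw [map_smul]; exact Submodule.smul_mem _ _ hx

/-- Semilinear maps out of the module of differentials are determined by the differentials. -/
theorem semi_ext {C Q : Type*} [CommRing C] [AddCommGroup Q] [Module C Q] {ρ : A →+* C}
    (D' : Derivation R A M') (hs : Function.Surjective D'.liftKaehlerDifferential)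
    {f g : M' →ₛₗ[ρ] Q} (h : ∀ a, f (D' a) = g (D' a)) : f = g := by
  ext m
  have hm : m ∈ Submodule.span A (Set.range D') := by
    rw [span_range D' hs]; trivial
  induction hm using Submodule.span_induction with
  | mem x hx => obtain ⟨a, rfl⟩ := hx; exact h a
  | zero => rw [map_zero, map_zero]
  | add x y _ _ hx hy => rw [map_add, map_add, hx, hy]
  | smul a x _ hx => rw [LinearMap.map_smulₛₗ, LinearMap.map_smulₛₗ, hx]

theorem exists_semi (ρ : A →+* B) (hρ : ∀ r, ρ (algebraMap R A r) = algebraMap R B r)
    (D' : Derivation R A M') (hb : Function.Bijective D'.liftKaehlerDifferential)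
    (D : Derivation R B M) : ∃ g : M' →ₛₗ[ρ] M, ∀ a, g (D' a) = D (ρ a) := by
  letI i1 : Module A M := Module.compHom M ρ
  haveI i2 : IsScalarTower R A M := ⟨fun r a m => by
    change ρ (r • a) • m = r • (ρ a • m)
    rw [Algebra.smul_def, map_mul, hρ, mul_smul, ← algebraMap_smul B r (ρ a • m)]⟩
  let δ : Derivation R A M :=
    { toFun := fun a => D (ρ a)
      map_add' := fun a b => by rw [map_add, map_add]
      map_smul' := fun r a => by
        rw [Algebra.smul_def, map_mul, hρ, ← Algebra.smul_def, D.map_smul]
        rfl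
      map_one_eq_zero' := by
        change D (ρ 1) = 0
        rw [map_one, Derivation.map_one_eq_zero]
      leibniz' := fun a b => by
        change D (ρ (a * b)) = ρ a • D (ρ b) + ρ b • D (ρ a)
        rw [map_mul, Derivation.leibniz] }
  let E := LinearEquiv.ofBijective _ hb
  let g := δ.liftKaehlerDifferential ∘ₗ E.symm.toLinearMap
  refine ⟨{ toFun := g, map_add' := map_add g, map_smul' := fun a m => map_smul g a m }, fun a => ?_⟩
  change δ.liftKaehlerDifferential (E.symm (D' a)) = D (ρ a)
  have h1 : E.symm (D' a) = KaehlerDifferential.D R A a := by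
    rw [LinearEquiv.symm_apply_eq]
    exact (D'.liftKaehlerDifferential_comp_D a).symm
  rw [h1, Derivation.liftKaehlerDifferential_comp_D]
  rfl

/-- Transport of modules of differentials along an isomorphism. -/
theorem exists_semiEquiv (σ : A ≃+* B) [RingHomInvPair (σ : A →+* B) (σ.symm : B →+* A)]
    [RingHomInvPair (σ.symm : B →+* A) (σ : A →+* B)]
    (hσ : ∀ r, σ (algebraMap R A r) = algebraMap R B r)
    (D' : Derivation R A M') (hb' : Function.Bijective D'.liftKaehlerDifferential)
    (D : Derivation R B M) (hb : Function.Bijective D.liftKaehlerDifferential) :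
    ∃ g : M' ≃ₛₗ[(σ : A →+* B)] M, ∀ a, g (D' a) = D (σ a) := by
  obtain ⟨g, hg⟩ := exists_semi (σ : A →+* B) hσ D' hb' D
  obtain ⟨h, hh⟩ := exists_semi (σ.symm : B →+* A) (fun r => by
    change σ.symm (algebraMap R B r) = _
    rw [← hσ, RingEquiv.symm_apply_apply]) D hb D'
  refine ⟨LinearEquiv.ofLinearMap g h ?_ ?_, hg⟩
  · refine semi_ext D hb.2 fun b => ?_
    change g (h (D b)) = D b
    rw [hh, hg]
    change D (σ (σ.symm b)) = _
    rw [RingEquiv.apply_symm_apply]
  · refine semi_ext D' hb'.2 fun a => ?_
    change h (g (D' a)) = D' a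
    rw [hg, hh]
    change D' (σ.symm (σ a)) = _
    rw [RingEquiv.symm_apply_apply]

end Der

section Ext

variable {A B M N : Type*} [CommRing A] [CommRing B] [AddCommGroup M] [Module A M] [AddCommGroup N]
  [Module B N]

/-- The exterior power of a semilinear equivalence. -/
theorem exists_extEquiv {σ : A →+* B} {σ' : B →+* A} [RingHomInvPair σ σ'] [RingHomInvPair σ' σ] (q : ℕ)
    (g : M ≃ₛₗ[σ] N) : ∃ G : ⋀[A]^q M ≃ₛₗ[σ] ⋀[B]^q N, ∀ v : Fin q → M,
      G (exteriorPower.ιMulti A q v) = exteriorPower.ιMulti B q (fun j => g (v j)) := by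
  refine ⟨LinearEquiv.ofLinearMap (extS q g.toLinearMap) (extS q g.symm.toLinearMap) ?_ ?_,
    fun v => extS_ιMulti q g.toLinearMap v⟩
  · refine extS_hom_ext fun m => ?_
    change extS q g.toLinearMap (extS q g.symm.toLinearMap _) = _
    rw [extS_ιMulti, extS_ιMulti]
    simp
  · refine extS_hom_ext fun m => ?_
    change extS q g.symm.toLinearMap (extS q g.toLinearMap _) = _
    rw [extS_ιMulti, extS_ιMulti]
    simp

/-- Membership of `Λ^q g (z)` in additive submonoids stable under scalars. -/
theorem extS_mem {ρ : A →+* B} (q : ℕ) (g : M →ₛₗ[ρ] N) {S : Set M} (hS : Submodule.span A S = ⊤)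
    (P : AddSubmonoid (⋀[B]^q N)) (hP : ∀ (a : A) (v : ⋀[B]^q N), v ∈ P → ρ a • v ∈ P)
    (h : ∀ s : Fin q → M, (∀ j, s j ∈ S) → exteriorPower.ιMulti B q (fun j => g (s j)) ∈ P)
    (z : ⋀[A]^q M) : extS q g z ∈ P := by
  have hz : z ∈ Submodule.span A (exteriorPower.ιMulti A q '' {a | Set.range a ⊆ S}) := by
    rw [exteriorPower.ιMulti_span_of_span A q M hS]; trivial
  induction hz using Submodule.span_induction with
  | mem x hx =>
    obtain ⟨s, hs, rfl⟩ := hx
    rw [extS_ιMulti]
    exact h s fun j => hs ⟨j, rfl⟩
  | zero => rw [map_zero]; exact zero_mem _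
  | add x y _ _ hx hy => rw [map_add]; exact add_mem hx hy
  | smul a x _ hx => rw [LinearMap.map_smulₛₗ]; exact hP _ _ hx

end Ext

end K284.SemiExt
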